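import Mathlib
import Groth.Agent.DefLib.ArtFlat

/-!
# Flatness descends along injective maps from a local ring with nilpotent maximal ideal
-/

set_option autoImplicit false
set_option backward.isDefEq.respectTransparency false

noncomputable section

universe u

open TensorProduct IsLocalRing

namespace Groth.Agent.KernelPairFlat

theorem flat_of_flat_baseChange {C B : Type u} [CommRing C] [IsLocalRing C] [CommRing B] [Algebra C B]
    (hnil : IsNilpotent (maximalIdeal C)) (hinj : Function.Injective (algebraMap C B))
    (M : Type u) [AddCommGroup M] [Module C M] [Module.Flat B (B ⊗[C] M)] : Module.Flat C M := by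
  classical
  letI : Field (C ⧸ maximalIdeal C) := Ideal.Quotient.field _
  let m := maximalIdeal C
  let Mb := M ⧸ (m • ⊤ : Submodule C M)
  obtain ⟨⟨ι, b⟩⟩ := Module.Free.exists_basis (R := C ⧸ m) (M := Mb)
  choose x hx using fun i => Submodule.Quotient.mk_surjective _ (b i)
  let φ : (ι →₀ C) →ₗ[C] M := Finsupp.linearCombination C x
  have hφ : ∀ f, Submodule.Quotient.mk (φ f) =
      Finsupp.linearCombination (C ⧸ m) b (Finsupp.mapRange (Ideal.Quotient.mk m) (map_zero _) f) := fun f => by
    induction f using Finsupp.induction_linear with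
    | zero => simp
    | add f g hf hg =>
      rw [map_add, Submodule.Quotient.mk_add, hf, hg, Finsupp.mapRange_add (map_add _), map_add]
    | single i c =>
      simp only [φ, Finsupp.linearCombination_single, Finsupp.mapRange_single, Submodule.Quotient.mk_smul, hx]
      rfl
  obtain ⟨n, hn⟩ := hnil
  have hsurj : Function.Surjective φ := by
    have key : ∀ j, ⊤ ≤ LinearMap.range φ ⊔ m ^ j • (⊤ : Submodule C M) := by
      intro j
      induction j with
      | zero => simp
      | succ j ih =>
        have h1 : (⊤ : Submodule C M) ≤ LinearMap.range φ ⊔ m • ⊤ := fun y _ => by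
          obtain ⟨f, hf⟩ := Finsupp.mapRange_surjective (Ideal.Quotient.mk m) (map_zero _)
            Ideal.Quotient.mk_surjective (b.repr (Submodule.Quotient.mk y))
          have : Submodule.Quotient.mk (φ f) = (Submodule.Quotient.mk y : Mb) := by
            rw [hφ, hf]; exact b.linearCombination_repr _
          exact Submodule.mem_sup.2 ⟨φ f, ⟨f, rfl⟩, y - φ f, (Submodule.Quotient.eq _).1 this.symm, by abel⟩
        refine ih.trans (sup_le le_sup_left ?_)
        calc m ^ j • (⊤ : Submodule C M) ≤ m ^ j • (LinearMap.range φ ⊔ m • ⊤) := Submodule.smul_mono le_rfl h1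
          _ ≤ _ := by
            rw [Submodule.smul_sup, ← Submodule.mul_smul, ← pow_succ]
            exact sup_le_sup_right Submodule.smul_le_right _
    intro y
    have := key n (Submodule.mem_top (x := y))
    rw [hn, Submodule.zero_eq_bot, Submodule.bot_smul, sup_bot_eq] at this
    exact this
  have hker : LinearMap.ker φ ≤ m • (⊤ : Submodule C (ι →₀ C)) := fun f hf => by
    have h0 := hφ f
    rw [show φ f = 0 from hf, Submodule.Quotient.mk_zero, eq_comm] at h0
    have hz := b.linearIndependent.finsuppLinearCombination_injective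
      (h0.trans (map_zero _).symm)
    rw [← f.sum_single]
    refine Submodule.sum_mem _ fun i _ => ?_
    rw [← Finsupp.smul_single_one]
    refine Submodule.smul_mem_smul ?_ Submodule.mem_top
    exact Ideal.Quotient.eq_zero_iff_mem.1 (DFunLike.congr_fun hz i)
  let Φ := φ.baseChange B
  have hΦs : Function.Surjective Φ := φ.lTensor_surjective B hsurj
  let J := m.map (algebraMap C B)
  have hΦk : LinearMap.ker Φ ≤ J • (⊤ : Submodule B (B ⊗[C] (ι →₀ C))) := by
    intro z hz
    obtain ⟨w, rfl⟩ := (_root_.lTensor_exact (M := ↥(LinearMap.ker φ)) B (LinearMap.exact_subtype_ker_map φ) hsurj z).mp hz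
    clear hz
    induction w with
    | zero => simp
    | add a a' ha ha' => rw [map_add]; exact add_mem ha ha'
    | tmul c f =>
      rw [LinearMap.lTensor_tmul, Submodule.subtype_apply]
      refine Submodule.smul_induction_on (hker f.2) (fun r hr g _ => ?_)
        (fun g g' hg hg' => by rw [tmul_add]; exact add_mem hg hg')
      rw [tmul_smul, ← algebraMap_smul B r (c ⊗ₜ[C] g)]
      exact Submodule.smul_mem_smul (Ideal.mem_map_of_mem _ hr) trivial
  have hΦ : LinearMap.ker Φ = ⊥ := by
    have h1 : LinearMap.ker Φ ≤ J • LinearMap.ker Φ :=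
      (le_inf le_rfl hΦk).trans (DefLib.ker_inf_smul_le Φ hΦs J)
    have key : ∀ j, LinearMap.ker Φ ≤ J ^ j • LinearMap.ker Φ := by
      intro j
      induction j with
      | zero => simp
      | succ j ih =>
        refine ih.trans ?_
        rw [pow_succ, Submodule.mul_smul]
        exact Submodule.smul_mono le_rfl h1
    refine eq_bot_iff.2 ((key n).trans ?_)
    rw [← Ideal.map_pow, hn, Ideal.zero_eq_bot, Ideal.map_bot, Submodule.bot_smul]
  have hK : Function.Injective φ := by
    intro f g hfg
    have h1 : Φ ((1 : B) ⊗ₜ f) = Φ ((1 : B) ⊗ₜ g) := by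
      simp only [Φ, LinearMap.baseChange_tmul, hfg]
    have h2 := LinearMap.ker_eq_bot.mp hΦ h1
    have hi : Function.Injective ((Algebra.linearMap C B).rTensor (ι →₀ C)) :=
      Module.Flat.rTensor_preserves_injective_linearMap _ hinj
    have h3 : ((Algebra.linearMap C B).rTensor (ι →₀ C)) ((1 : C) ⊗ₜ f) =
        ((Algebra.linearMap C B).rTensor (ι →₀ C)) ((1 : C) ⊗ₜ g) := by
      simpa using h2
    exact (TensorProduct.lid C (ι →₀ C)).symm.injective (hi h3)
  haveI := Module.Free.of_equiv (LinearEquiv.ofBijective φ ⟨hK, hsurj⟩)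
  infer_instance

end Groth.Agent.KernelPairFlat
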