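import Mathlib
import Groth.Agent.KernelPairFlatLib.Alg
import Groth.Agent.AlgSpLib.ReducedStalk
import Groth.Agent.MultLiftLib.KerBot
import Groth.Agent.SweepSix.FlatCancel
import Groth.Agent.HomogDenseLib.Max

/-!
# A schematically dominant morphism with flat kernel pair is flat somewhere
-/

set_option autoImplicit false
set_option backward.isDefEq.respectTransparency false

noncomputable section

universe u

open CategoryTheory CategoryTheory.Limits AlgebraicGeometry
open Groth.Agent.HomogDense

namespace Groth.Agent.KernelPairFlat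

theorem flat_snd_comp {X Y C : Scheme.{u}} (f : X ⟶ C) (t : Y ⟶ X) [Flat t] [Flat (pullback.snd f f)] :
    Flat (pullback.snd (t ≫ f) (t ≫ f)) := by
  let a : pullback f (t ≫ f) ⟶ pullback f f :=
    pullback.map _ _ _ _ (𝟙 X) t (𝟙 C) (by simp) (by simp)
  have sq : IsPullback a (pullback.snd f (t ≫ f)) (pullback.snd f f) t := by
    refine IsPullback.of_right ?_ (pullback.lift_snd _ _ _) (IsPullback.of_hasPullback f f)
    rw [pullback.lift_fst, Category.comp_id]
    exact IsPullback.of_hasPullback _ _
  haveI : Flat (pullback.snd f (t ≫ f)) := MorphismProperty.of_isPullback sq inferInstance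
  let M : pullback (t ≫ f) (t ≫ f) ⟶ pullback f (t ≫ f) :=
    pullback.map _ _ _ _ t (𝟙 Y) (𝟙 C) (by simp) (by simp)
  haveI : Flat M :=
    MorphismProperty.pullbackMap (P := @Flat) inferInstance inferInstance (by simp) (by simp)
  rw [show pullback.snd (t ≫ f) (t ≫ f) = M ≫ pullback.snd f (t ≫ f) from
    ((pullback.lift_snd _ _ _).trans (Category.comp_id _)).symm]
  infer_instance

theorem exists_flatAt {X C : Scheme.{u}} (p : X ⟶ C) [QuasiCompact p] [IsLocallyNoetherian C]
    [IsSchemeTheoreticallyDominant p] [Flat (pullback.snd p p)] {η : C} (hη : IsMaxPt η) :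
    ∃ x : X, (p.stalkMap x).hom.Flat := by
  let j := C.fromSpecStalk η
  haveI : Flat j := AlgSpLib.flat_fromSpecStalk η
  haveI : Mono j := inferInstance
  let Z := pullback p j
  let sZ : Z ⟶ Spec (C.presheaf.stalk η) := pullback.snd p j
  haveI : IsSchemeTheoreticallyDominant sZ := inferInstance
  haveI : CompactSpace Z := QuasiCompact.compactSpace_of_compactSpace sZ
  haveI hZ : Flat (pullback.snd sZ sZ) := by
    have h := flat_snd_comp p (pullback.fst p j)
    have hk : IsKernelPair (sZ ≫ j) (pullback.fst (pullback.fst p j ≫ p) (pullback.fst p j ≫ p))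
        (pullback.snd (pullback.fst p j ≫ p) (pullback.fst p j ≫ p)) := by
      show IsPullback _ _ (sZ ≫ j) (sZ ≫ j)
      rw [← (pullback.condition : pullback.fst p j ≫ p = sZ ≫ j)]
      exact IsPullback.of_hasPullback _ _
    have hk' : IsPullback _ _ sZ sZ := hk.cancel_right_of_mono
    rw [← hk'.isoPullback_inv_snd]
    infer_instance
  obtain ⟨R, t, hts, htf⟩ : ∃ (R : CommRingCat.{u}) (t : Spec R ⟶ Z), Surjective t ∧ Flat t := by
    let 𝒰 : Z.OpenCover := Z.affineCover.finiteSubcover
    refine ⟨_, (∐ 𝒰.X).isoSpec.inv ≫ Sigma.desc 𝒰.f, inferInstance, ?_⟩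
    haveI : Flat (Sigma.desc 𝒰.f) := IsZariskiLocalAtSource.sigmaDesc fun i => inferInstance
    infer_instance
  obtain ⟨φ, hφ⟩ := Spec.map_surjective (t ≫ sZ)
  haveI : IsSchemeTheoreticallyDominant t := ⟨MultLift.ker_eq_bot_of_flat_surjective t⟩
  haveI : IsSchemeTheoreticallyDominant (Spec.map φ) := by rw [hφ]; infer_instance
  have hinj : Function.Injective φ.hom := by
    intro a b hab
    have h1 : Function.Injective (Spec.map φ).appTop.hom := (Spec.map φ).app_injective ⊤
    apply (ConcreteCategory.bijective_of_isIso (Scheme.ΓSpecIso (C.presheaf.stalk η)).inv).1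
    apply h1
    have hn := Scheme.ΓSpecIso_inv_naturality φ
    exact ((congrArg (fun m => m.hom a) hn).symm.trans (congrArg (Scheme.ΓSpecIso R).inv.hom hab)).trans
      (congrArg (fun m => m.hom b) hn)
  haveI hP : Flat (pullback.fst (Spec.map φ) (Spec.map φ)) := by
    haveI : Flat (pullback.snd (t ≫ sZ) (t ≫ sZ)) := flat_snd_comp sZ t
    haveI : Flat (pullback.snd (Spec.map φ) (Spec.map φ)) := by rw [hφ]; infer_instance
    rw [← pullbackSymmetry_hom_comp_snd]
    infer_instance
  algebraize [φ.hom]
  haveI : Module.Flat R (TensorProduct (C.presheaf.stalk η) R R) := by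
    have h : Flat ((pullbackSpecIso (C.presheaf.stalk η) R R).inv ≫ pullback.fst _ _) :=
      (MorphismProperty.cancel_left_of_respectsIso @Flat _ _).mpr hP
    rw [pullbackSpecIso_inv_fst, Flat.SpecMap_iff] at h
    exact RingHom.flat_algebraMap_iff.mp h
  have hnil : IsNilpotent (IsLocalRing.maximalIdeal (C.presheaf.stalk η)) := by
    have hs : ∀ P : PrimeSpectrum (C.presheaf.stalk η), P = IsLocalRing.closedPoint _ := by
      intro P
      apply j.isEmbedding.injective
      have h1 : j.base P ⤳ η := (Scheme.range_fromSpecStalk (x := η)).le ⟨P, rfl⟩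
      rw [hη _ h1]
      exact (Scheme.fromSpecStalk_closedPoint (x := η)).symm
    obtain ⟨n, hn⟩ := IsNoetherianRing.isNilpotent_nilradical (C.presheaf.stalk η)
    refine ⟨n, le_bot_iff.mp ((Ideal.pow_right_mono ?_ n).trans hn.le)⟩
    rw [nilradical_eq_sInf]
    refine le_sInf fun P hP => ?_
    exact (congrArg PrimeSpectrum.asIdeal (hs ⟨P, hP⟩)).ge
  have hflat : φ.hom.Flat := flat_of_flat_baseChange hnil hinj R
  haveI : Flat (Spec.map φ) := Flat.SpecMap_iff.mpr hflat
  let h := t ≫ pullback.fst p j
  haveI : Flat h := inferInstance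
  haveI : Flat (h ≫ p) := by
    rw [Category.assoc, pullback.condition, ← Category.assoc]
    show Flat ((t ≫ sZ) ≫ j)
    rw [← hφ]
    infer_instance
  haveI : Nontrivial R := hinj.nontrivial
  let y : ↥(Spec R) := Classical.arbitrary _
  refine ⟨h.base y, ?_⟩
  have h2 := (Flat.iff_flat_stalkMap (h ≫ p)).mp inferInstance y
  rw [Scheme.Hom.stalkMap_comp] at h2
  exact SweepSix.flat_of_comp _ (h.stalkMap y).hom ((Flat.iff_flat_stalkMap h).mp inferInstance y) h2

end Groth.Agent.KernelPairFlat
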